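import Groth.Agent.Lib.SmoothRegImm25.Affine
import Mathlib.RingTheory.Regular.Flat

/-!
# Smoothness from a smooth closed subscheme cut out by a regular sequence, finitely presented case
-/

set_option autoImplicit false

universe u

open IsLocalRing

namespace Groth.Agent.RegDown5

/-- The kernel of the map of local rings induced by a surjection. -/
theorem ker_localRingHom {A B : Type u} [CommRing A] [CommRing B] (f : A →+* B) (hf : Function.Surjective f)
    (q : Ideal A) [q.IsPrime] (Q : Ideal B) [Q.IsPrime] (hq : q = Q.comap f) :
    RingHom.ker (Localization.localRingHom q Q f hq) = (RingHom.ker f).map (algebraMap A (Localization.AtPrime q)) := by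
  refine IsLocalization.ker_map (M := q.primeCompl) (T := Q.primeCompl) (Localization.AtPrime Q) f ?_
  subst hq
  ext x
  constructor
  · rintro ⟨a, ha, rfl⟩
    exact ha
  · intro hx
    obtain ⟨a, rfl⟩ := hf x
    exact ⟨a, hx, rfl⟩

/-- Smoothness at `q` from smoothness of `B = A/I` at `Q`, `I` being generated by a regular sequence at `q`. -/
theorem isSmoothAt_of_regular (R A B : Type u) [CommRing R] [CommRing A] [CommRing B]
    [Algebra R A] [Algebra.FinitePresentation R A] [Algebra R B] [Algebra A B] [IsScalarTower R A B]
    (hsurj : Function.Surjective (algebraMap A B)) (q : Ideal A) [q.IsPrime] (Q : Ideal B) [Q.IsPrime]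
    (hq : q = Q.comap (algebraMap A B)) [Algebra.IsSmoothAt R Q]
    {n : ℕ} (g : Fin n → Localization.AtPrime q) (hreg : RingTheory.Sequence.IsWeaklyRegular (Localization.AtPrime q) (List.ofFn g))
    (hg : (RingHom.ker (algebraMap A B)).map (algebraMap A (Localization.AtPrime q)) = Ideal.span (Set.range g)) :
    Algebra.IsSmoothAt R q := by
  obtain ⟨N, φ, hφ⟩ := Algebra.FiniteType.iff_quotient_mvPolynomial''.mp
    (inferInstance : Algebra.FiniteType R A)
  let qP : Ideal (MvPolynomial (Fin N) R) := q.comap φ.toRingHom
  let L := Localization.AtPrime qP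
  let Sl := Localization.AtPrime q
  let Tl := Localization.AtPrime Q
  let α : L →+* Sl := Localization.localRingHom qP q φ.toRingHom rfl
  let β : Sl →+* Tl := Localization.localRingHom q Q (algebraMap A B) hq
  have hα : Function.Surjective α := RingHom.surjectiveOnStalks_of_surjective hφ q ‹_›
  have hβ : Function.Surjective β := by
    subst hq
    exact RingHom.surjectiveOnStalks_of_surjective hsurj Q ‹_›
  have hkα : (RingHom.ker α).FG := by
    rw [ker_localRingHom _ hφ]
    exact (Algebra.FinitePresentation.ker_fG_of_surjective φ hφ).map _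
  have hkβ : RingHom.ker β = Ideal.span (Set.range g) := (ker_localRingHom _ hsurj q Q hq).trans hg
  have hkγ : (RingHom.ker (β.comp α)).FG :=
    Ideal.fg_ker_comp α β hkα (hkβ ▸ Submodule.fg_span (Set.finite_range g)) hα
  letI : Algebra L Sl := α.toAlgebra
  letI : Algebra Sl Tl := β.toAlgebra
  letI : Algebra L Tl := (β.comp α).toAlgebra
  haveI : IsScalarTower L Sl Tl := IsScalarTower.of_algebraMap_eq' rfl
  have hα0 : ∀ r, α (algebraMap R L r) = algebraMap R Sl r := fun r => by
    rw [IsScalarTower.algebraMap_apply R (MvPolynomial (Fin N) R) L, Localization.localRingHom_to_map,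
      IsScalarTower.algebraMap_apply R A Sl]
    exact congrArg _ (φ.commutes r)
  haveI : IsScalarTower R L Sl := IsScalarTower.of_algebraMap_eq fun r => (hα0 r).symm
  haveI : IsScalarTower R L Tl := IsScalarTower.of_algebraMap_eq fun r => by
    show _ = β (α (algebraMap R L r))
    rw [hα0, IsScalarTower.algebraMap_apply R A Sl, Localization.localRingHom_to_map,
      IsScalarTower.algebraMap_apply R B Tl, IsScalarTower.algebraMap_apply R A B]
  haveI : Algebra.FormallySmooth R Tl := ‹Algebra.IsSmoothAt R Q›
  haveI := SmoothRegImm25.free_kaehler (R := R) qP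
  haveI := SmoothRegImm25.finite_kaehler (R := R) qP
  haveI := SmoothRegImm25.formallySmooth_local (R := R) qP
  exact SmoothRegImm25.formallySmooth_of_regular_quotient R Sl Tl hα hβ hkα hkγ g hkβ hreg

end Groth.Agent.RegDown5
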